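import Cfsg.Agent.Helper16.ConvRing
import Cfsg.Agent.Helper16.Idempotent
import Cfsg.Agent.Helper16.ConvPowSum
import Cfsg.Agent.Helper16.KulshammerCount
import Cfsg.Agent.Helper78.RelPrincipal
import Cfsg.Agent.Helper74.CharComplete

/-!
# Normal `p`-complements from the count of `p`-regular elements: definitions (helper16)

Shared definitions for the proof of S4427: the `ℂ`-algebra structure on the convolution algebra
`CAlg G`, the augmentation, the local ring at `M` as a subring of `ℂ`, the idempotent of a subgroup
as an element of `CAlg G`, and the pairing of a function with a character.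
-/

set_option autoImplicit false
set_option linter.unusedSectionVars false

namespace Cfsg.Agent.Helper16.PC

open Cfsg Cfsg.Agent.Helper16

universe u

variable {G : Type u} [Group G] [Fintype G] {M : Ideal AlgInt}

noncomputable instance instModuleCAlg : Module ℂ (CAlg G) := inferInstanceAs (Module ℂ (G → ℂ))

theorem fn_smul (c : ℂ) (a : CAlg G) (g : G) : CAlg.fn (c • a) g = c * CAlg.fn a g := rfl

theorem smul_mul' (c : ℂ) (a b : CAlg G) : (c • a) * b = c • (a * b) := by
  apply CAlg.ext
  intro g
  rw [fn_smul, CAlg.fn_mul, CAlg.fn_mul, conv_apply, conv_apply, Finset.mul_sum]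
  refine Finset.sum_congr rfl (fun x _ => ?_)
  rw [fn_smul, mul_assoc]

theorem mul_smul' (c : ℂ) (a b : CAlg G) : a * (c • b) = c • (a * b) := by
  apply CAlg.ext
  intro g
  rw [fn_smul, CAlg.fn_mul, CAlg.fn_mul, conv_apply, conv_apply, Finset.mul_sum]
  refine Finset.sum_congr rfl (fun x _ => ?_)
  rw [fn_smul]; ring

noncomputable instance instAlgebraCAlg : Algebra ℂ (CAlg G) :=
  Algebra.ofModule smul_mul' mul_smul'

theorem algebraMap_eq (c : ℂ) : algebraMap ℂ (CAlg G) c = c • (1 : CAlg G) :=
  Algebra.algebraMap_eq_smul_one c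

/-- The augmentation `∑_g a(g)` of an element of the convolution algebra. -/
noncomputable def augFn (a : CAlg G) : ℂ := ∑ g : G, CAlg.fn a g

theorem augFn_mul (a b : CAlg G) : augFn (a * b) = augFn a * augFn b :=
  Helper78.sum_conv_eq (CAlg.fn a) (CAlg.fn b)

theorem augFn_one : augFn (1 : CAlg G) = 1 := by
  classical
  unfold augFn
  rw [CAlg.fn_one]
  unfold deltaOne
  simp

theorem augFn_add (a b : CAlg G) : augFn (a + b) = augFn a + augFn b := by
  unfold augFn
  rw [CAlg.fn_add]
  simp [Finset.sum_add_distrib]

theorem augFn_smul (c : ℂ) (a : CAlg G) : augFn (c • a) = c * augFn a := by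
  unfold augFn
  rw [Finset.mul_sum]
  rfl

/-- The augmentation as an algebra homomorphism. -/
noncomputable def aug : CAlg G →ₐ[ℂ] ℂ where
  toFun := augFn
  map_one' := augFn_one
  map_mul' := augFn_mul
  map_zero' := by unfold augFn; simp [CAlg.fn_zero]
  map_add' := augFn_add
  commutes' := fun c => by
    rw [algebraMap_eq, augFn_smul, augFn_one, mul_one]; rfl

theorem aug_apply (a : CAlg G) : aug a = ∑ g : G, CAlg.fn a g := rfl

/-- The local ring at `M`, as a subring of `ℂ`. -/
def localSubring (M : Ideal AlgInt) [M.IsPrime] : Subring ℂ where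
  carrier := {z | MemLocalRing M z}
  mul_mem' := fun ha hb => memLocalRing_mul ha hb
  one_mem' := memLocalRing_one
  add_mem' := fun ha hb => memLocalRing_add ha hb
  zero_mem' := memLocalRing_zero
  neg_mem' := fun ha => memLocalRing_neg ha

theorem mem_localSubring [M.IsPrime] {z : ℂ} : z ∈ localSubring M ↔ MemLocalRing M z := Iff.rfl

/-- The idempotent `|H|⁻¹ ∑_{h ∈ H} h` of a subgroup, in the convolution algebra. -/
noncomputable def eSub (H : Subgroup G) : CAlg G := CAlg.of (subgroupIdem H)

theorem eSub_mul_self (H : Subgroup G) : eSub H * eSub H = eSub H := by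
  classical
  exact conv_subgroupIdem H

/-- The pairing `∑_k a(k) χ(k)` of an element of the convolution algebra with a function. -/
noncomputable def pair (a : CAlg G) (χ : G → ℂ) : ℂ := ∑ k : G, CAlg.fn a k * χ k

/-- `p^a` times the indicator function of the `p`-regular elements, `p^a` the `p`-part of `|G|`. -/
noncomputable def theta (p : ℕ) (G : Type u) [Group G] : G → ℂ :=
  fun x => if p ∣ orderOf x then 0 else ((p ^ (Nat.card G).factorization p : ℕ) : ℂ)

end Cfsg.Agent.Helper16.PC
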