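import Cfsg.Agent.Helper16.PC.Defs
import Cfsg.Agent.Helper74.DefectZero
import Cfsg.Agent.Helper31.PC_IVc
import Cfsg.Agent.Helper31.PC_Ic
import Cfsg.Agent.Helper47.PC_IVa
import Cfsg.Agent.Helper47.PC_Ie
import Cfsg.Agent.Helper49.PC_II
import Cfsg.Agent.Helper68.PC_Id1
import Cfsg.Agent.Helper68.PC_Id2
import Cfsg.Agent.Helper74.PC_III
import Cfsg.Agent.Helper74.PC_IVb
import Cfsg.Agent.Helper90.PC_Ib
import Cfsg.Agent.Helper90.PC_IVe
import Cfsg.Agent.Helper30.PC_IVd

/-!
# A group of order `p^a q^b r^c` with exactly `q^b r^c` `p`-regular elements has a normal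
`p`-complement (helper16; assembly of the pieces farmed in board post #12085)

`Θ = p^a 1_X` (`X` the set of `p`-regular elements) is a generalized character `∑ a_χ χ` with
`∑ a_χ² = p^a` and `a_1 = 1`.  An idempotent `f` of the local group ring with augmentation `1`,
`e_Q f = f` and `f ∈ A e_R A` (`Q`, `R` Sylow `q`- and `r`-subgroups) has ranks
`φ_χ ≤ ⟨1_Q^G, χ⟩, ⟨1_R^G, χ⟩`, hence `∑ φ_χ² ≤ |Q\G/R| = p^a`, while
`∑ a_χ φ_χ = p^a (1 - y)` with `y` in the local ideal.  This forces `a = φ ≥ 0`, so `Θ` is a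
character, and `X` is its kernel.
-/

set_option autoImplicit false
set_option linter.unusedSectionVars false
set_option linter.unusedVariables false

namespace Cfsg.Agent.Helper16.PC

open Cfsg Cfsg.Agent.Helper16 Polynomial
open scoped ComplexConjugate

universe u

section modI

variable {G : Type u} [Group G] [Fintype G] {M : Ideal AlgInt} {p : ℕ}

theorem aug_eSub (H : Subgroup G) : aug (eSub H) = 1 := by
  classical
  rw [aug_apply]
  have h := sum_subgroupIdem_mul H (fun _ => (1 : ℂ))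
  simp only [mul_one] at h
  change ∑ g : G, subgroupIdem H g = 1
  rw [h]
  have hH0 : (Nat.card H : ℂ) ≠ 0 := by exact_mod_cast Nat.card_pos.ne'
  rw [Finset.sum_const, Finset.card_univ, ← Nat.card_eq_fintype_card, nsmul_eq_mul, mul_one]
  exact inv_mul_cancel₀ hH0

/-- Module I: the idempotent attached to `τ`. -/
theorem PC_I (hM : IsPModular p M) (τ : CAlg G) (N : ℕ) (hN : ¬ p ∣ N)
    (hτ : ∀ g, ∃ z : ℤ, (N : ℂ) * CAlg.fn τ g = z) (hε : aug τ = 1) :
    ∃ w : CAlg G, RValued M (CAlg.fn w) ∧ RValued M (CAlg.fn τ) ∧ Commute w τ ∧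
      (τ * w) * (τ * w) = τ * w ∧ aug (τ * w) = 1 := by
  haveI hMp : M.IsPrime := IsPModular.isPrime hM
  have hτR : RValued M (CAlg.fn τ) := by
    intro g
    obtain ⟨z, hz⟩ := hτ g
    have hN0 : (N : ℂ) ≠ 0 := by
      have : N ≠ 0 := fun h => hN (h ▸ dvd_zero p)
      exact_mod_cast this
    have : CAlg.fn τ g = (z : ℂ) * (N : ℂ)⁻¹ := by
      rw [← hz]; field_simp
    rw [this]
    exact memLocalRing_mul (memLocalRing_intCast z) (memLocalRing_inv_natCast hM hN)
  obtain ⟨Λ, hΛ, hΛτ⟩ := Cfsg.Agent.Helper90.PC.PC_Ib hM τ N hN hτ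
  have h1 : (1 : ℂ) ∈ Λ := by
    have h := congrArg aug hΛτ
    rw [← Polynomial.aeval_algHom_apply, hε, map_zero, Polynomial.coe_aeval_eq_eval,
      Polynomial.eval_multiset_prod, Multiset.prod_eq_zero_iff, Multiset.map_map] at h
    obtain ⟨l, hl, hl0⟩ := Multiset.mem_map.mp h
    simp only [Function.comp_apply, eval_sub, eval_X, eval_C] at hl0
    have : l = 1 := by linear_combination -hl0
    rw [← this]; exact hl
  obtain ⟨V, hdvd, hV1⟩ := Cfsg.Agent.Helper68.PC.PC_Id1 Λ hΛ h1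
  set Vc := V.map (localSubring M).subtype with hVc
  have hX : τ * aeval τ Vc = aeval τ (X * Vc) := by rw [map_mul, aeval_X]
  refine ⟨aeval τ Vc, Cfsg.Agent.Helper68.PC.PC_Id2 τ hτR V, hτR, ?_, ?_, ?_⟩
  · have h : aeval τ (Vc * X) = aeval τ (X * Vc) := by rw [mul_comm]
    rw [map_mul, map_mul, aeval_X] at h
    exact h
  · rw [hX]
    obtain ⟨K, hK⟩ := hdvd
    have h : aeval τ ((X * Vc) * (1 - X * Vc)) = 0 := by rw [hK, map_mul, hΛτ, zero_mul]
    rw [map_mul, map_sub, map_one, mul_sub, mul_one, sub_eq_zero] at h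
    exact h.symm
  · rw [map_mul, hε, one_mul, ← Polynomial.aeval_algHom_apply, hε, Polynomial.coe_aeval_eq_eval]
    exact hV1

end modI

theorem fac3 (p q r a b c : ℕ) (hp : p.Prime) (hq : q.Prime) (hr : r.Prime) :
    (p ^ a * q ^ b * r ^ c).factorization =
      Finsupp.single p a + Finsupp.single q b + Finsupp.single r c := by
  have h1 : p ^ a ≠ 0 := pow_ne_zero _ hp.ne_zero
  have h2 : q ^ b ≠ 0 := pow_ne_zero _ hq.ne_zero
  have h3 : r ^ c ≠ 0 := pow_ne_zero _ hr.ne_zero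
  rw [Nat.factorization_mul (mul_ne_zero h1 h2) h3, Nat.factorization_mul h1 h2,
    hp.factorization_pow, hq.factorization_pow, hr.factorization_pow]

theorem main {G : Type u} [Group G] [Finite G] (p q r a b c : ℕ) (hp : p.Prime) (hq : q.Prime)
    (hr : r.Prime) (hpq : p ≠ q) (hpr : p ≠ r) (hqr : q ≠ r)
    (hG : Nat.card G = p ^ a * q ^ b * r ^ c)
    (hcount : Nat.card {g : G // ¬ p ∣ orderOf g} = q ^ b * r ^ c) :
    ∃ N : Subgroup G, N.Normal ∧ Nat.card N = q ^ b * r ^ c := by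
  classical
  haveI : Fact p.Prime := ⟨hp⟩
  haveI : Fact q.Prime := ⟨hq⟩
  haveI : Fact r.Prime := ⟨hr⟩
  letI : Fintype G := Fintype.ofFinite G
  letI : Fintype (IrrCharacter G) := Helper74.irrFintype G
  obtain ⟨M, hM⟩ := Helper74.exists_isPModular p hp
  haveI hMp : M.IsPrime := IsPModular.isPrime hM
  have hfacp : (Nat.card G).factorization p = a := by
    rw [hG, fac3 p q r a b c hp hq hr]
    simp [hpq.symm, hpr.symm]
  have hfacq : (Nat.card G).factorization q = b := by
    rw [hG, fac3 p q r a b c hp hq hr]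
    simp [hpq, hqr.symm]
  have hfacr : (Nat.card G).factorization r = c := by
    rw [hG, fac3 p q r a b c hp hq hr]
    simp [hpr, hqr]
  have hX : p ^ (Nat.card G).factorization p * Nat.card {g : G // ¬ p ∣ orderOf g} =
      Nat.card G := by
    rw [hfacp, hcount, hG]; ring
  -- Sylow subgroups
  let Q : Sylow q G := default
  let R : Sylow r G := default
  have hQ : Nat.card (Q : Subgroup G) = q ^ b := by
    rw [Sylow.card_eq_multiplicity, hfacq]
  have hR : Nat.card (R : Subgroup G) = r ^ c := by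
    rw [Sylow.card_eq_multiplicity, hfacr]
  set eQ : CAlg G := eSub (Q : Subgroup G) with heQ
  set eR : CAlg G := eSub (R : Subgroup G) with heR
  have hQQ : eQ * eQ = eQ := eSub_mul_self _
  have hRR : eR * eR = eR := eSub_mul_self _
  set τ : CAlg G := eQ * eR * eQ with hτdef
  have hNp : ¬ p ∣ Nat.card (Q : Subgroup G) * Nat.card (R : Subgroup G) *
      Nat.card (Q : Subgroup G) := by
    rw [hQ, hR]
    intro h
    rcases (Nat.Prime.dvd_mul hp).mp h with h | h
    · rcases (Nat.Prime.dvd_mul hp).mp h with h | h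
      · exact hpq ((Nat.prime_dvd_prime_iff_eq hp hq).mp (hp.dvd_of_dvd_pow h))
      · exact hpr ((Nat.prime_dvd_prime_iff_eq hp hr).mp (hp.dvd_of_dvd_pow h))
    · exact hpq ((Nat.prime_dvd_prime_iff_eq hp hq).mp (hp.dvd_of_dvd_pow h))
  have hετ : aug τ = 1 := by
    rw [hτdef, map_mul, map_mul, aug_eSub, aug_eSub, mul_one, mul_one]
  obtain ⟨w, hwR, hτR, hwτ, hff, hεf⟩ := PC_I hM τ _ hNp (Cfsg.Agent.Helper47.PC.PC_Ie (Q : Subgroup G) (R : Subgroup G)) hετ
  set f : CAlg G := τ * w with hfdef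
  have hfRv : RValued M (CAlg.fn f) := rValued_conv hτR hwR
  have hQτ : eQ * τ = τ := by
    rw [hτdef, ← mul_assoc, ← mul_assoc, hQQ]
  have hQf : eQ * f = f := by rw [hfdef, ← mul_assoc, hQτ]
  have hfdecomp : f = eQ * eR * (eQ * w * f) := by
    have h1 : f * f = eQ * eR * (eQ * w * f) := by
      have h2 : f * f = (eQ * eR * eQ * w) * f := rfl
      rw [h2]; simp only [mul_assoc]
    rw [← h1, hff]
  -- ranks
  have key : ∀ χ : IrrCharacter G, ∃ mf m₁ m₂ : ℕ, pair f (χ : G → ℂ) = mf ∧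
      pair eQ (χ : G → ℂ) = m₁ ∧ pair eR (χ : G → ℂ) = m₂ ∧ mf ≤ m₁ ∧ mf ≤ m₂ := by
    intro χ
    obtain ⟨m, ρ, hρ, hχ⟩ := χ.2
    have h := Cfsg.Agent.Helper74.PC.PC_III ρ f eQ eR eQ (eQ * w * f) hff hQQ hRR hQf hfdecomp
    rwa [hχ] at h
  choose φ α β hφ hα hβ hφα hφβ using key
  -- decomposition of theta
  obtain ⟨a', hθ, hsq, ha1⟩ := Cfsg.Agent.Helper47.PC.PC_IVa (G := G) (p := p) hX
  rw [hfacp] at hsq
  set y : ℂ := ∑ k : G, if p ∣ orderOf k then CAlg.fn f k else 0 with hydef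
  have hy : MemLocalIdeal M y := Cfsg.Agent.Helper49.PC.PC_II hM f hff hfRv
  have hεf' : ∑ k : G, CAlg.fn f k = 1 := hεf
  have hNeq : ((∑ χ : IrrCharacter G, a' χ * (φ χ : ℤ) : ℤ) : ℂ) = (p : ℂ) ^ a * (1 - y) := by
    push_cast
    calc ∑ χ : IrrCharacter G, (a' χ : ℂ) * (φ χ : ℂ)
        = ∑ χ : IrrCharacter G, (a' χ : ℂ) * pair f (χ : G → ℂ) := by
          refine Finset.sum_congr rfl (fun χ _ => ?_)
          rw [hφ]
      _ = ∑ k : G, CAlg.fn f k * theta p G k := by
          unfold pair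
          simp_rw [Finset.mul_sum]
          rw [Finset.sum_comm]
          refine Finset.sum_congr rfl (fun k _ => ?_)
          rw [hθ, Finset.mul_sum]
          refine Finset.sum_congr rfl (fun χ _ => ?_)
          ring
      _ = (p : ℂ) ^ a * (1 - y) := by
          rw [← hεf', hydef, ← Finset.sum_sub_distrib, Finset.mul_sum]
          refine Finset.sum_congr rfl (fun k _ => ?_)
          unfold theta
          rw [hfacp]
          by_cases hk : p ∣ orderOf k
          · rw [if_pos hk, if_pos hk]; ring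
          · rw [if_neg hk, if_neg hk]; push_cast; ring
  have hNabs := Cfsg.Agent.Helper30.PC.PC_IVd hM _ a y hy hNeq
  -- double cosets
  have hαβ : ∑ χ : IrrCharacter G, α χ * β χ = p ^ a := by
    have h := Cfsg.Agent.Helper74.PC.PC_IVb (G := G) (Q : Subgroup G) (R : Subgroup G) q r hq hr hqr b c hQ hR (p ^ a) hG
    have h' : ((∑ χ : IrrCharacter G, α χ * β χ : ℕ) : ℂ) = ((p ^ a : ℕ) : ℂ) := by
      rw [← h]
      push_cast
      refine Finset.sum_congr rfl (fun χ _ => ?_)
      rw [← heQ, ← heR, hα, hβ, Complex.conj_natCast]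
    exact_mod_cast h'
  have hφ1 : φ (Helper79.principalIrr G) = 1 := by
    have h := hφ (Helper79.principalIrr G)
    have h2 : pair f ((Helper79.principalIrr G : IrrCharacter G) : G → ℂ) = 1 := by
      unfold pair
      rw [← hεf']
      refine Finset.sum_congr rfl (fun k _ => ?_)
      change CAlg.fn f k * 1 = _
      rw [mul_one]
    rw [h2] at h
    exact_mod_cast h.symm
  have hEq := Cfsg.Agent.Helper31.PC.PC_IVc a' φ α β (p ^ a) (Helper79.principalIrr G) hφα hφβ hsq hαβ hNabs ha1 hφ1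
  obtain ⟨N, hNn, hNmem⟩ := Cfsg.Agent.Helper90.PC.PC_IVe (G := G) (p := p) φ (fun g => by
    rw [hθ g]
    refine Finset.sum_congr rfl (fun χ _ => ?_)
    rw [hEq χ]; push_cast; rfl)
  refine ⟨N, hNn, ?_⟩
  rw [← hcount]
  exact Nat.card_congr (Equiv.subtypeEquivRight hNmem)

end Cfsg.Agent.Helper16.PC
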